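import Groth.Agent.Lib.SGA2Para.CI
import Groth.Agent.Lib.CIPres.Completion
import Groth.Agent.S5199
import Groth.Agent.S0247
import Groth.Agent.S0250
import Groth.Agent.S0262
import Groth.Agent.S0251
import Groth.Agent.PunctPure21.Quot
import Groth.Agent.Lib.FEt21.DepthTwo

/-!
# Purity for complete intersections of dimension at least three
-/

set_option autoImplicit false
set_option linter.style.haveILetI false

universe u

open CategoryTheory CategoryTheory.Limits AlgebraicGeometry IsLocalRing RingTheory.Sequence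

namespace GrothLib.CIPure21

open GrothLib.SGA2Para (le_depth_of_ci IsCurvePrime)

theorem purityHolds_congr {R S : Type u} [CommRing R] [CommRing S] [IsLocalRing R] [IsLocalRing S]
    (e : R ≃+* S) (h : FEt.PurityHolds S) : FEt.PurityHolds R :=
  Groth.Agent.S0251.purityHolds_of_ringEquiv e h

/-- Depth at the primes of coheight one. -/
theorem le_depth_of_coheight_le_one {A : Type u} [CommRing A] [IsLocalRing A] [IsNoetherianRing A] (P : Ideal A)
    [P.IsPrime] (hP : ringKrullDim (A ⧸ P) ≤ ((1 : ℕ) : WithBot ℕ∞)) (n : ℕ)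
    (hd : ((n + 1 : ℕ) : ℕ∞) ≤ LocCoh.depth A A) :
    (n : ℕ∞) ≤ LocCoh.depth (Localization.AtPrime P) (Localization.AtPrime P) := by
  have hdim : Module.supportDim A (A ⧸ P) ≤ ((1 : ℕ) : WithBot ℕ∞) := by
    rwa [Module.supportDim_quotient_eq_ringKrullDim]
  have h1 : (n : ℕ∞) ≤ LocCoh.idealDepth P A :=
    (Depth.le_idealDepth_iff_ext P n).2 fun i hi =>
      Depth.subsingleton_ext_of_dim_le A 1 (A ⧸ P) hdim i
        (lt_of_lt_of_le (by exact_mod_cast Nat.succ_lt_succ hi) hd)
  exact h1.trans ((Depth.idealDepth_le_localization P P le_rfl).trans (Depth.depth_localization_self P).le)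

/-- The inductive statement. -/
def PureCI (r : ℕ) : Prop :=
  ∀ (R : Type u) [CommRing R] [IsRegularLocalRing R] (rs : List R), rs.length = r →
    (∀ x ∈ rs, x ∈ maximalIdeal R) → IsWeaklyRegular R rs →
    ∀ (A : Type u) [CommRing A] [IsLocalRing A] [IsNoetherianRing A] (π : R →+* A),
      Function.Surjective π → RingHom.ker π = Ideal.ofList rs → (3 : WithBot ℕ∞) ≤ ringKrullDim A →
      FEt.PurityHolds A

theorem pureCI_zero : PureCI.{u} 0 := by
  intro R _ _ rs hlen _ _ A _ _ _ π hπ hker hdim
  rw [List.length_eq_zero_iff] at hlen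
  subst hlen
  rw [Ideal.ofList_nil] at hker
  let e := RingEquiv.ofBijective π ⟨(RingHom.injective_iff_ker_eq_bot π).2 hker, hπ⟩
  haveI : IsRegularLocalRing A := IsRegularLocalRing.of_ringEquiv e
  exact Groth.Agent.S0247.result A (le_trans (by norm_num) hdim)

/-- Purity descends from the completion. -/
theorem purityHolds_of_completion (A : Type u) [CommRing A] [IsNoetherianRing A] [IsLocalRing A]
    (h : FEt.PurityHolds (AdicCompletion (maximalIdeal A) A)) : FEt.PurityHolds A := by
  refine ⟨fun V => ?_⟩
  let ρ := algebraMap A (AdicCompletion (maximalIdeal A) A)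
  let f := Spec.map (CommRingCat.ofHom ρ)
  let ι := (FEt.puncturedSpec A).ι
  haveI : Module.Flat A (AdicCompletion (maximalIdeal A) A) := AdicCompletion.flat_of_isNoetherian _
  have hρ : ∀ q : PrimeSpectrum (AdicCompletion (maximalIdeal A) A),
      q.asIdeal.comap ρ = maximalIdeal A → q.asIdeal = maximalIdeal _ := fun q hq => by
    refine le_antisymm (le_maximalIdeal q.isPrime.ne_top) ?_
    rw [AdicCompletion.maximalIdeal_eq_map, Ideal.map_le_iff_le_comap, hq]
  have hr : (pullback.snd ι f).opensRange = FEt.puncturedSpec (AdicCompletion (maximalIdeal A) A) := by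
    refine TopologicalSpace.Opens.ext ?_
    show Set.range (pullback.snd ι f) = _
    rw [Scheme.Pullback.range_snd, Scheme.Opens.range_ι]
    refine Set.ext fun q => not_congr ?_
    show f q = closedPoint A ↔ q = closedPoint _
    constructor
    · intro hq
      exact PrimeSpectrum.ext (hρ q (congrArg PrimeSpectrum.asIdeal hq))
    · rintro rfl
      haveI : IsLocalHom ρ := inferInstanceAs (IsLocalHom (algebraMap A (AdicCompletion (maximalIdeal A) A)))
      exact IsLocalRing.comap_closedPoint ρ
  obtain ⟨Y', ⟨e⟩⟩ := Groth.Agent.PurityLef21.exists_extension_of_purityHolds (pullback.snd ι f) hr h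
    ((FEt.restrict (pullback.fst ι f)).obj V)
  exact (Groth.Agent.S0262.result A V).2 ⟨Y', ⟨e⟩⟩

set_option maxHeartbeats 1000000 in
/-- The step, over a complete regular local ring. -/
theorem pureCI_complete {r : ℕ} (ih : PureCI.{u} r) (R : Type u) [CommRing R] [IsRegularLocalRing R]
    [IsAdicComplete (maximalIdeal R) R] (rs : List R) (x : R) (hlen : rs.length = r)
    (hm : ∀ y ∈ rs ++ [x], y ∈ maximalIdeal R) (hw : IsWeaklyRegular R (rs ++ [x]))
    (A : Type u) [CommRing A] [IsLocalRing A] [IsNoetherianRing A] (π : R →+* A)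
    (hπ : Function.Surjective π) (hker : RingHom.ker π = Ideal.ofList (rs ++ [x]))
    (hdim : (3 : WithBot ℕ∞) ≤ ringKrullDim A) : FEt.PurityHolds A := by
  let I : Ideal R := Ideal.ofList rs
  have hrs : ∀ y ∈ rs, y ∈ maximalIdeal R := fun y hy => hm y (List.mem_append_left _ hy)
  have hxm : x ∈ maximalIdeal R := hm x (List.mem_append_right _ (List.mem_singleton_self x))
  haveI : IsLocalRing (R ⧸ I) := SGA2Para.isLocalRing_quotient I (Ideal.span_le.2 hrs)
  let A' := R ⧸ I
  let t : A' := Ideal.Quotient.mk I x
  have htm : t ∈ maximalIdeal A' := by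
    rw [← IsLocalRing.map_maximalIdeal_of_surjective _ Ideal.Quotient.mk_surjective]
    exact Ideal.mem_map_of_mem _ hxm
  haveI : IsLocalRing (A' ⧸ Ideal.span {t}) :=
    SGA2Para.isLocalRing_quotient _ ((Ideal.span_singleton_le_iff_mem _).2 htm)
  obtain ⟨hw', hx⟩ := (isWeaklyRegular_append_iff R rs [x]).1 hw
  have ht : IsSMulRegular A' t := by
    rw [isWeaklyRegular_singleton_iff, isSMulRegular_quotient_iff_mem_of_smul_mem] at hx
    intro a b hab
    obtain ⟨a, rfl⟩ := Ideal.Quotient.mk_surjective a
    obtain ⟨b, rfl⟩ := Ideal.Quotient.mk_surjective b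
    have h : x • (a - b) ∈ (Ideal.ofList rs • ⊤ : Submodule R R) := by
      rw [smul_eq_mul, smul_eq_mul, Ideal.mul_top, mul_sub]
      exact Ideal.Quotient.eq.1 hab
    have h2 := hx (a - b) h
    rw [smul_eq_mul, Ideal.mul_top] at h2
    exact Ideal.Quotient.eq.2 h2
  let π₂ : R →+* A' ⧸ Ideal.span {t} := (Ideal.Quotient.mk _).comp (Ideal.Quotient.mk I)
  have hπ₂ : Function.Surjective π₂ := Ideal.Quotient.mk_surjective.comp Ideal.Quotient.mk_surjective
  have hker₂ : RingHom.ker π₂ = Ideal.ofList (rs ++ [x]) := by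
    show RingHom.ker ((Ideal.Quotient.mk (Ideal.span {t})).comp (Ideal.Quotient.mk I)) = _
    rw [← RingHom.comap_ker, Ideal.mk_ker, show Ideal.span {t} = (Ideal.span {x}).map (Ideal.Quotient.mk I) by
      rw [Ideal.map_span, Set.image_singleton], Ideal.comap_map_of_surjective _ Ideal.Quotient.mk_surjective,
      ← RingHom.ker_eq_comap_bot, Ideal.mk_ker, Ideal.ofList_append, Ideal.ofList_singleton, sup_comm]
  let e : A ≃+* A' ⧸ Ideal.span {t} :=
    (RingHom.quotientKerEquivOfSurjective hπ).symm.trans
      ((Ideal.quotEquivOfEq (hker.trans hker₂.symm)).trans (RingHom.quotientKerEquivOfSurjective hπ₂))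
  refine purityHolds_congr e ?_
  rw [ringKrullDim_eq_of_ringEquiv e] at hdim
  haveI hc : IsAdicComplete (maximalIdeal A') A' := by
    rw [← IsLocalRing.map_maximalIdeal_of_surjective _ (Ideal.Quotient.mk_surjective (I := I)),
      ← Ideal.Quotient.algebraMap_eq, IsAdicComplete.map_algebraMap_iff]
    exact AdicLim.isAdicComplete_of_finite (maximalIdeal R) A'
  haveI : IsAdicComplete (Ideal.span {t}) A' :=
    AdicExtra.isAdicComplete_of_le ((Ideal.span_singleton_le_iff_mem _).2 htm) (Submodule.fg_span_singleton t)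
  have hdimA' : (3 : WithBot ℕ∞) ≤ ringKrullDim A' :=
    hdim.trans (ringKrullDim_le_of_surjective _ Ideal.Quotient.mk_surjective)
  have hA' : FEt.PurityHolds A' :=
    ih R rs hlen hrs hw' A' (Ideal.Quotient.mk I) Ideal.Quotient.mk_surjective Ideal.mk_ker hdimA'
  have hd4 : ((3 + 1 : ℕ) : ℕ∞) ≤ LocCoh.depth A' A' := by
    refine le_depth_of_ci R rs hrs hw' A' (Ideal.Quotient.mk I) Ideal.Quotient.mk_surjective Ideal.mk_ker _ ?_
    rw [← ringKrullDim_quotient_span_singleton_succ_eq_ringKrullDim ht htm]
    push_cast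
    exact le_trans (by norm_num) (add_le_add hdim le_rfl)
  have hloc : ∀ P : PrimeSpectrum A', ringKrullDim (A' ⧸ P.asIdeal) ≤ ((1 : ℕ) : WithBot ℕ∞) →
      (3 : ℕ∞) ≤ LocCoh.depth (Localization.AtPrime P.asIdeal) (Localization.AtPrime P.asIdeal) :=
    fun P hP => le_depth_of_coheight_le_one P.asIdeal hP 3 hd4
  have hleff := Groth.Agent.S5199.result A' ⟨R, inferInstance, inferInstance, Ideal.Quotient.mk I,
    Ideal.Quotient.mk_surjective⟩ t htm ht
    (fun p hp h => le_trans (by norm_num) (hloc ⟨p, hp⟩ (by rw [h]; rfl)))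
    (fun p hp _ h => hloc ⟨p, hp⟩ (by rw [h]; rfl))
  let X := Spec (CommRingCat.of A')
  let cl : Spec (CommRingCat.of (A' ⧸ Ideal.span {t})) ⟶ X :=
    Spec.map (CommRingCat.ofHom (Ideal.Quotient.mk (Ideal.span {t})))
  haveI : IsClosedImmersion cl := IsClosedImmersion.spec_of_surjective _ Ideal.Quotient.mk_surjective
  have hpure : ∀ V : X.Opens, (cl.ker.support : Set X) ∩ (FEt.puncturedSpec A' : Set X) ⊆ (V : Set X) →
      (FEt.restrict V.ι).IsEquivalence := by
    intro V hV
    have hcurve : ∀ y : PrimeSpectrum A', y ∉ (V : Set X) → y.asIdeal ≠ maximalIdeal A' →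
        IsCurvePrime t y.asIdeal := by
      intro y hy hne
      have hmem : ∀ Q : PrimeSpectrum A', t ∈ Q.asIdeal → Q.asIdeal ≠ maximalIdeal A' → Q ∈ (V : Set X) := by
        intro Q hQ hQm
        refine hV ⟨?_, fun h => hQm (congrArg PrimeSpectrum.asIdeal h)⟩
        rw [Scheme.Hom.support_ker, (cl.isClosedEmbedding.isClosed_range).closure_eq]
        show Q ∈ Set.range (PrimeSpectrum.comap (Ideal.Quotient.mk (Ideal.span {t})))
        rw [_root_.range_comap_of_surjective _ _ Ideal.Quotient.mk_surjective, Ideal.mk_ker,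
          PrimeSpectrum.zeroLocus_span]
        exact Set.singleton_subset_iff.2 hQ
      refine ⟨hne, fun h => hy (hmem y h hne), fun Q hQ hle hQt => ?_⟩
      by_contra hQm
      refine hy ?_
      have hs : (y : X) ⤳ (⟨Q, hQ⟩ : PrimeSpectrum A') :=
        (PrimeSpectrum.le_iff_specializes y ⟨Q, hQ⟩).1 hle
      exact hs.mem_open V.2 (hmem ⟨Q, hQ⟩ hQt hQm)
    have hdep : ∀ y : PrimeSpectrum A', y ∉ (V : Set X) →
        (3 : ℕ∞) ≤ LocCoh.depth (Localization.AtPrime y.asIdeal) (Localization.AtPrime y.asIdeal) := by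
      intro y hy
      refine hloc y ?_
      by_cases hym : y.asIdeal = maximalIdeal A'
      · haveI : y.asIdeal.IsMaximal := hym ▸ maximalIdeal.isMaximal A'
        rw [ringKrullDim_eq_zero_of_isField
          ((Ideal.Quotient.maximal_ideal_iff_isField_quotient _).1 inferInstance)]
        norm_num
      · haveI := SGA2Para.ringKrullDim_quotient_le_one htm (hcurve y hy hym)
        exact Ring.krullDimLE_iff.1 inferInstance
    obtain ⟨hfull, hfaith⟩ := GrothLib.FEt21.fullyFaithful_of_depthTwo (U := V) (fun y hy => by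
      rw [GrothLib.FEt21.depth_stalk_Spec]
      exact le_trans (by norm_num) (hdep y hy))
    haveI := hfull
    haveI := hfaith
    haveI : (FEt.restrict V.ι).EssSurj := by
      refine Groth.Agent.S0250.result V fun y hy => ?_
      refine purityHolds_congr
        (AlgebraicGeometry.StructureSheaf.stalkIso (CommRingCat.of A') y).symm.toRingEquiv ?_
      let P := (y : PrimeSpectrum A').asIdeal
      by_cases hym : P = maximalIdeal A'
      · have hu : P.primeCompl ≤ IsUnit.submonoid A' := fun a ha => by
          show IsUnit a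
          by_contra h
          exact ha (hym ▸ (mem_maximalIdeal a).2 h)
        exact purityHolds_congr (IsLocalization.atUnits A' P.primeCompl hu).toRingEquiv.symm hA'
      · let q : Ideal R := P.comap (Ideal.Quotient.mk I)
        haveI : IsRegularLocalRing (Localization.AtPrime q) := Groth.Agent.S0564.result R q
        have hT : Submonoid.map (Ideal.Quotient.mk I) q.primeCompl = P.primeCompl := by
          refine SetLike.ext fun a => ?_
          constructor
          · rintro ⟨b, hb, rfl⟩
            exact hb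
          · intro ha
            obtain ⟨b, rfl⟩ := Ideal.Quotient.mk_surjective a
            exact ⟨b, ha, rfl⟩
        let πq : Localization.AtPrime q →+* Localization.AtPrime P :=
          IsLocalization.map (M := q.primeCompl) (T := P.primeCompl) (Localization.AtPrime P)
            (Ideal.Quotient.mk I) (fun b hb => hb)
        have hsurj : Function.Surjective πq := by
          haveI : IsLocalization (q.primeCompl.map (Ideal.Quotient.mk I)) (Localization.AtPrime P) := by
            rw [hT]; infer_instance
          exact IsLocalization.map_surjective_of_surjective _ _ _ Ideal.Quotient.mk_surjective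
        have hkerq : RingHom.ker πq = Ideal.ofList (rs.map (algebraMap R (Localization.AtPrime q))) := by
          rw [← Ideal.map_ofList (algebraMap R (Localization.AtPrime q)) rs]
          exact (IsLocalization.ker_map (S := Localization.AtPrime q) (Localization.AtPrime P) _ hT).trans
            (by rw [Ideal.mk_ker])
        have hmq : ∀ z ∈ rs.map (algebraMap R (Localization.AtPrime q)),
            z ∈ maximalIdeal (Localization.AtPrime q) := by
          intro z hz
          obtain ⟨w, hw₀, rfl⟩ := List.mem_map.1 hz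
          rw [IsLocalization.AtPrime.to_map_mem_maximal_iff (Localization.AtPrime q) q w]
          show Ideal.Quotient.mk I w ∈ P
          rw [Ideal.Quotient.eq_zero_iff_mem.2 (show w ∈ I from Ideal.subset_span hw₀)]
          exact zero_mem P
        haveI : Module.Flat R (Localization.AtPrime q) := IsLocalization.flat _ q.primeCompl
        refine ih (Localization.AtPrime q) _ (by rw [List.length_map, hlen]) hmq hw'.of_flat _ πq hsurj hkerq ?_
        calc (3 : WithBot ℕ∞) = ((3 : ℕ∞) : WithBot ℕ∞) := rfl
          _ ≤ (LocCoh.depth (Localization.AtPrime P) (Localization.AtPrime P) : WithBot ℕ∞) :=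
            WithBot.coe_le_coe.2 (hdep y hy)
          _ ≤ _ := CMFree.depth_le_ringKrullDim _
    exact { }
  have hpp := GrothLib.PunctPure21.isPurePair_quotient (Ideal.span {t}) hleff hpure
  haveI := GrothLib.PunctPure21.isEquivalence_ι hpp
  exact inferInstanceAs (FEt.restrict (FEt.puncturedSpec (A' ⧸ Ideal.span {t})).ι).EssSurj

theorem pureCI_succ {r : ℕ} (ih : PureCI.{u} r) : PureCI.{u} (r + 1) := by
  intro R _ _ rs hlen hm hw A _ _ _ π hπ hker hdim
  let I : Ideal R := Ideal.ofList rs
  haveI : IsLocalRing (R ⧸ I) := SGA2Para.isLocalRing_quotient I (Ideal.span_le.2 hm)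
  let e : (R ⧸ I) ≃+* A := (Ideal.quotEquivOfEq hker.symm).trans (RingHom.quotientKerEquivOfSurjective hπ)
  refine purityHolds_congr e.symm (purityHolds_of_completion (R ⧸ I) ?_)
  rw [← ringKrullDim_eq_of_ringEquiv e] at hdim
  obtain ⟨ec⟩ := GrothLib.CIPres.nonempty_completion_quotient (R := R) I
  let R' := AdicCompletion (maximalIdeal R) R
  haveI : IsRegularLocalRing R' := AdicExtra.isRegularLocalRing_adicCompletion_iff.1 inferInstance
  haveI : IsAdicComplete (maximalIdeal R') R' := by
    rw [AdicCompletion.maximalIdeal_eq_map]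
    exact AdicCompletion.isAdicComplete_self _ (IsNoetherian.noetherian _)
  let ρ : R →+* R' := algebraMap R R'
  have hρm : (maximalIdeal R).map ρ = maximalIdeal R' := AdicCompletion.maximalIdeal_eq_map.symm
  let I' : Ideal R' := I.map ρ
  have hI' : I' = Ideal.ofList (rs.map ρ) := Ideal.map_ofList ρ rs
  have hm' : ∀ y ∈ rs.map ρ, y ∈ maximalIdeal R' := by
    intro y hy
    obtain ⟨z, hz, rfl⟩ := List.mem_map.1 hy
    exact hρm ▸ Ideal.mem_map_of_mem ρ (hm z hz)
  haveI : Module.Flat R R' := AdicCompletion.flat_of_isNoetherian _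
  have hw' : IsWeaklyRegular R' (rs.map ρ) := hw.of_flat
  haveI : IsLocalRing (R' ⧸ I') := SGA2Para.isLocalRing_quotient I' (hI' ▸ Ideal.span_le.2 hm')
  have hdim' : (3 : WithBot ℕ∞) ≤ ringKrullDim (R' ⧸ I') := by
    rw [← ringKrullDim_eq_of_ringEquiv ec, AdicExtra.ringKrullDim_adicCompletion]
    exact hdim
  obtain ⟨rs₀, x, hx⟩ := (List.eq_nil_or_concat' (rs.map ρ)).resolve_left (by
    intro h
    have := congrArg List.length h
    rw [List.length_map, hlen] at this
    exact Nat.succ_ne_zero r this)
  rw [hx] at hm' hw' hI'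
  refine purityHolds_congr ec ?_
  refine pureCI_complete ih R' rs₀ x ?_ hm' hw' (R' ⧸ I') (Ideal.Quotient.mk I') Ideal.Quotient.mk_surjective
    (Ideal.mk_ker.trans hI') hdim'
  have := congrArg List.length hx
  rw [List.length_map, hlen, List.length_append, List.length_singleton] at this
  omega

/-- A complete intersection of dimension at least three is pure. -/
theorem purityHolds_of_ci : ∀ r, PureCI.{u} r
  | 0 => pureCI_zero
  | r + 1 => pureCI_succ (purityHolds_of_ci r)

end GrothLib.CIPure21
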